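import Groth.Prelude.Def_W4c5monodromycubicsHesse
import Mathlib

/-! Projective automorphisms of a general Hesse cubic. -/

set_option autoImplicit false

noncomputable section

namespace Groth.Agent.Hesse

open MvPolynomial

abbrev P3 := MvPolynomial (Fin 3) ℂ
abbrev M3 := Matrix (Fin 3) (Fin 3) ℂ

/-- The pencil. -/
def pen (u w : ℂ) : P3 := C u * (X 0 ^ 3 + X 1 ^ 3 + X 2 ^ 3) - C (3 * w) * (X 0 * X 1 * X 2)

theorem form_eq (k : ℂ) : HesseCubic.form k = pen 1 k := by simp [HesseCubic.form, pen]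

theorem pen_add (u w u' w' : ℂ) : pen (u + u') (w + w') = pen u w + pen u' w' := by
  simp [pen, mul_add, map_add]; ring

theorem pen_smul (e u w : ℂ) : pen (e * u) (e * w) = C e * pen u w := by
  simp [pen, map_mul]; ring

theorem pen_inj {u w u' w' : ℂ} (h : pen u w = pen u' w') : u = u' ∧ w = w' := by
  have h1 := congrArg (eval ![1, 0, 0]) h
  have h2 := congrArg (eval ![1, 1, 1]) h
  simp [pen] at h1 h2
  exact ⟨h1, by linear_combination (-1 / 3 : ℂ) * h2 + h1⟩

/-- Linear substitution. -/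
def sub (A : M3) : P3 →ₐ[ℂ] P3 := aeval fun i : Fin 3 => ∑ j : Fin 3, C (A i j) * X j

theorem eval_sub (A : M3) (v : Fin 3 → ℂ) (f : P3) :
    eval v (sub A f) = eval (A.mulVec v) f := by
  rw [sub, aeval_def, MvPolynomial.algebraMap_eq]
  induction f using MvPolynomial.induction_on with
  | C a => simp
  | add p q hp hq => simp [hp, hq]
  | mul_X p i hp => simp [hp, Matrix.mulVec, dotProduct]

theorem sub_inj {A : M3} (hA : IsUnit A.det) : Function.Injective (sub A) := by
  intro f g h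
  refine MvPolynomial.funext fun v => ?_
  have := congrArg (eval (A⁻¹.mulVec v)) h
  rwa [eval_sub, eval_sub, Matrix.mulVec_mulVec, Matrix.mul_nonsing_inv A hA,
    Matrix.one_mulVec] at this

theorem pderiv_sub (A : M3) (f : P3) (j : Fin 3) :
    pderiv j (sub A f) = ∑ i, C (A i j) * sub A (pderiv i f) := by
  induction f using MvPolynomial.induction_on with
  | C a => simp [sub]
  | add p q hp hq => simp [hp, hq, mul_add, Finset.sum_add_distrib]
  | mul_X p i hp =>
    rw [map_mul, pderiv_mul, hp, Finset.sum_mul]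
    have h1 : pderiv j (sub A (X i)) = C (A i j) := by
      simp [sub, map_sum, pderiv_X, Pi.single_apply, Finset.sum_ite_eq']
    rw [h1]
    simp only [pderiv_mul, map_add, map_mul, mul_add, Finset.sum_add_distrib, pderiv_X]
    congr 1
    · exact Finset.sum_congr rfl fun l _ => by ring
    · rw [Finset.sum_eq_single i]
      · simp; ring
      · intro l _ hl; simp [hl]
      · simp

/-- Hessian matrix and determinant. -/
def hessM (f : P3) : Matrix (Fin 3) (Fin 3) P3 := Matrix.of fun i j => pderiv i (pderiv j f)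

def hess (f : P3) : P3 := (hessM f).det

theorem hessM_sub (A : M3) (f : P3) :
    hessM (sub A f) = (A.map C).transpose * (hessM f).map (sub A) * A.map C := by
  apply Matrix.ext
  intro i j
  simp only [hessM, Matrix.mul_apply, Matrix.map_apply, Matrix.transpose_apply, Matrix.of_apply,
    pderiv_sub, map_sum, pderiv_C_mul, smul_eq_C_mul, Finset.mul_sum, Finset.sum_mul]
  exact Finset.sum_congr rfl fun a _ => Finset.sum_congr rfl fun b _ => by ring

theorem hess_sub {A : M3} (hA : A.det = 1) (f : P3) : hess (sub A f) = sub A (hess f) := by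
  rw [hess, hessM_sub, Matrix.det_mul, Matrix.det_mul, Matrix.det_transpose]
  have h1 : (A.map C).det = (1 : P3) := by
    rw [← RingHom.mapMatrix_apply, ← RingHom.map_det, hA, map_one]
  rw [h1, one_mul, mul_one, hess, AlgHom.map_det]
  rfl

theorem hess_pen (u w : ℂ) : hess (pen u w) = pen (-54 * u * w ^ 2) (18 * w ^ 3 - 72 * u ^ 3) := by
  rw [hess, Matrix.det_fin_three]
  simp only [hessM, Matrix.of_apply, pen]
  have h3 : ∀ i, pderiv i (3 : P3) = 0 := fun i => by rw [← map_ofNat (C : ℂ →+* P3)]; exact pderiv_C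
  simp [pderiv_mul, pderiv_X, Pi.single_apply, pderiv_pow, h3]
  simp only [map_mul, map_neg, map_sub, map_pow, map_ofNat]
  ring

theorem hess_C_mul (e : ℂ) (f : P3) : hess (C e * f) = C (e ^ 3) * hess f := by
  have : hessM (C e * f) = (C e : P3) • hessM f := by
    apply Matrix.ext; intro i j; simp [hessM, pderiv_C_mul, smul_eq_C_mul]
  rw [hess, this, Matrix.det_smul, Fintype.card_fin, map_pow, hess]

/-- A member of the pencil proportional to its own Hessian is the triangle at infinity or one of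
the three others. -/
theorem self_hess {u w e : ℂ} (h : hess (pen u w) = C e * pen u w) (hu : u ≠ 0) :
    w ^ 3 = u ^ 3 := by
  rw [hess_pen, ← pen_smul] at h
  obtain ⟨h1, h2⟩ := pen_inj h
  have he : e = -54 * w ^ 2 := mul_right_cancel₀ hu (by linear_combination -h1)
  rw [he] at h2
  linear_combination (1 / 72 : ℂ) * h2

def mu : Set ℂ := {a | a ^ 3 = 1}

theorem mu_finite : mu.Finite := by
  refine ((Polynomial.nthRoots 3 (1 : ℂ)).toFinset.finite_toSet).subset fun a ha => ?_
  simpa [mu, Polynomial.mem_nthRoots] using ha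

/-- Candidate `(p, r)`. -/
def cand (z a b b' : ℂ) : Set (ℂ × ℂ) :=
  {(-1, b * (z - 1) - a * z), (-z, b * (1 - z) - a),
    ((a * (1 - z) - b + b' * z) / (b - b'),
      b * ((a * (1 - z) - b + b' * z) / (b - b') + 1) - a)}

theorem quad_finite (p q : ℂ) : {k : ℂ | k * k + p * k + q = 0}.Finite := by
  let f : Polynomial ℂ := Polynomial.X ^ 2 + Polynomial.C p * Polynomial.X + Polynomial.C q
  have hf : f ≠ 0 := fun h => by
    have := congrArg (fun g => Polynomial.coeff g 2) h
    simp [f, Polynomial.coeff_C] at this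
  refine (Polynomial.finite_setOfPred_isRoot hf).subset fun k hk => ?_
  simp only [Set.mem_ofPred_eq, Polynomial.IsRoot.def, f, Polynomial.eval_add, Polynomial.eval_pow,
    Polynomial.eval_X, Polynomial.eval_mul, Polynomial.eval_C] at hk ⊢
  linear_combination hk

/-- The parameters to avoid. -/
def bad (z : ℂ) : Set ℂ :=
  {0} ∪ mu ∪ ⋃ a ∈ mu, ⋃ b ∈ mu, ⋃ b' ∈ mu, ⋃ pr ∈ cand z a b b',
    {k : ℂ | k * k + (pr.1 - a) * k + -pr.2 = 0}

theorem bad_finite (z : ℂ) : (bad z).Finite :=
  ((Set.finite_singleton 0).union mu_finite).union <| mu_finite.biUnion fun a _ =>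
    mu_finite.biUnion fun b _ => mu_finite.biUnion fun b' _ =>
      ((((Set.finite_singleton _).insert _).insert _) : (cand z a b b').Finite).biUnion fun pr _ => quad_finite _ _

variable {A : M3} {k c : ℂ}

/-- An automorphism acts on the pencil linearly, fixing each of the four triangles' set. -/
theorem pencil_action (hA : A.det = 1) (hk : k ^ 3 ≠ 1) (h : sub A (pen 1 k) = C c * pen 1 k) :
    ∃ α β γ δ : ℂ, (∀ u w, sub A (pen u w) = pen (α * u + γ * w) (β * u + δ * w)) ∧
      α + γ * k = c ∧ β + δ * k = c * k := by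
  have h2 := hess_sub hA (pen 1 k)
  rw [h, hess_C_mul, hess_pen] at h2
  set e1 := -54 * 1 * k ^ 2 with he1
  set e2 := 18 * k ^ 3 - 72 * (1 : ℂ) ^ 3 with he2
  have hD : e2 - e1 * k ≠ 0 := fun h0 => hk (by
    rw [he1, he2] at h0; linear_combination (1 / 72 : ℂ) * h0)
  set D := e2 - e1 * k
  set γ := (c ^ 3 - c) * e1 / D with hγ
  set δ := (c ^ 3 * e2 - c * e1 * k) / D with hδ
  refine ⟨c - γ * k, c * k - δ * k, γ, δ, fun u w => ?_, by ring, by ring⟩
  have e : pen u w = C ((w - u * k) / D) * pen e1 e2 +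
      C (u - (w - u * k) / D * e1) * pen 1 k := by
    rw [← pen_smul, ← pen_smul, ← pen_add]
    congr 1 <;> field_simp <;> ring
  rw [e, map_add, map_mul, map_mul, h, ← h2, ← pen_smul, ← pen_smul c]
  simp only [sub, aeval_C, algebraMap_eq]
  rw [← pen_smul, ← pen_smul, ← pen_add]
  congr 1 <;> simp only [hγ, hδ] <;> field_simp <;> ring

theorem monomial_of_triangle (hA : A.det ≠ 0) {δ : ℂ}
    (h : sub A (X 0 * X 1 * X 2) = C δ * (X 0 * X 1 * X 2)) :
    ∃ τ : Equiv.Perm (Fin 3), ∀ i l, l ≠ τ i → A i l = 0 := by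
  classical
  have hrow : ∀ j : Fin 3, ∃ i, ∀ l, l ≠ j → A i l = 0 := by
    intro j
    let κ : P3 →ₐ[ℂ] P3 := aeval (Function.update X j 0)
    have h0 := congrArg κ h
    rw [show κ (C δ * (X 0 * X 1 * X 2)) = 0 by fin_cases j <;> simp [κ]] at h0
    simp only [map_mul, mul_eq_zero] at h0
    have key : ∀ i, κ (sub A (X i)) = 0 → ∀ l, l ≠ j → A i l = 0 := by
      intro i hi l hl
      have hκ : ∀ p : P3, eval (Pi.single l (1 : ℂ)) (κ p) = eval (Pi.single l (1 : ℂ)) p := by
        intro p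
        induction p using MvPolynomial.induction_on with
        | C a => simp [κ]
        | add p q hp hq => simp [hp, hq]
        | mul_X p m hp =>
          rw [map_mul, map_mul, hp, map_mul]
          congr 1
          rcases eq_or_ne m j with rfl | hm
          · simp [κ, Ne.symm hl]
          · simp [κ, hm]
      have := congrArg (eval (Pi.single l (1 : ℂ))) hi
      rw [hκ, eval_sub, map_zero, eval_X, Matrix.mulVec_single_one] at this
      exact this
    rcases h0 with (h0 | h0) | h0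
    exacts [⟨0, key 0 h0⟩, ⟨1, key 1 h0⟩, ⟨2, key 2 h0⟩]
  choose σ hσ using hrow
  have hinj : Function.Injective σ := by
    intro j j' e
    by_contra hne
    refine hA (Matrix.det_eq_zero_of_row_eq_zero (σ j) fun l => ?_)
    rcases eq_or_ne l j with rfl | hl
    · exact e ▸ hσ j' l hne
    · exact hσ j l hl
  refine ⟨(Equiv.ofBijective σ hinj.bijective_of_finite).symm, fun i l hl => ?_⟩
  have := hσ ((Equiv.ofBijective σ hinj.bijective_of_finite).symm i) l hl
  rwa [Equiv.ofBijective_apply_symm_apply σ hinj.bijective_of_finite i] at this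

/-- The monomial matrix. -/
def mono (τ : Equiv.Perm (Fin 3)) (d : Fin 3 → ℂ) : M3 :=
  Matrix.of fun i l => if l = τ i then d i else 0

theorem det_mono (τ : Equiv.Perm (Fin 3)) (d : Fin 3 → ℂ) :
    (mono τ d).det = (Equiv.Perm.sign τ : ℤ) * ∏ i, d i := by
  have : mono τ d = Matrix.diagonal d * τ.permMatrix ℂ := by
    apply Matrix.ext; intro i l
    simp [mono, Matrix.diagonal_mul, Equiv.Perm.permMatrix, PEquiv.toMatrix, eq_comm]
  rw [this, Matrix.det_mul, Matrix.det_diagonal, Matrix.det_permutation, mul_comm]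

theorem sub_mono (τ : Equiv.Perm (Fin 3)) (d : Fin 3 → ℂ) (i : Fin 3) :
    sub (mono τ d) (X i) = C (d i) * X (τ i) := by
  simp [sub, mono, apply_ite, Finset.sum_ite_eq']

theorem sub_mono_pen (τ : Equiv.Perm (Fin 3)) (d : Fin 3 → ℂ) (u w : ℂ) :
    sub (mono τ d) (pen u w) =
      C u * ∑ i, C (d i ^ 3) * X (τ i) ^ 3 - C (3 * w) * (C (∏ i, d i) * ∏ i, X (τ i)) := by
  have hC : ∀ e : ℂ, sub (mono τ d) (C e) = C e := fun e => by simp [sub]
  simp only [pen, map_sub, map_mul, map_add, map_pow, sub_mono, hC, Fin.sum_univ_three,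
    Fin.prod_univ_three, mul_pow, map_prod]
  ring

/-- The structure of an automorphism of `h_k`. -/
theorem classify {z : ℂ} (hz : z ^ 3 = 1) (hz1 : z ≠ 1) (hk : k ∉ bad z) (hA : A.det = 1)
    (h : sub A (pen 1 k) = C c * pen 1 k) :
    ∃ (τ : Equiv.Perm (Fin 3)) (d : Fin 3 → ℂ), A = mono τ d ∧
      ∀ i, d i ^ 3 = (Equiv.Perm.sign τ : ℤ) ∧ ∏ i, d i = (Equiv.Perm.sign τ : ℤ) := by
  simp only [bad, Set.mem_union, Set.mem_singleton_iff, Set.mem_iUnion, not_or, not_exists] at hk
  obtain ⟨⟨hk0, hk1⟩, hkq⟩ := hk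
  obtain ⟨α, β, γ, δ, hact, hα, hβ⟩ := pencil_action hA hk1 h
  have hinj := sub_inj (A := A) (by simp [hA])
  have hself : ∀ u w e : ℂ, hess (pen u w) = C e * pen u w → α * u + γ * w ≠ 0 →
      (β * u + δ * w) ^ 3 = (α * u + γ * w) ^ 3 := by
    intro u w e he hne
    refine self_hess (e := e) ?_ hne
    rw [← hact, hess_sub hA, he, map_mul, hact]
    simp [sub]
  have hnd : γ ≠ 0 → α * δ - β * γ ≠ 0 := by
    intro hg h0
    have h1 : sub A (pen (-γ) α) = sub A (pen 0 0) := by
      rw [hact, hact]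
      congr 1 <;> first | linear_combination h0 | ring
    exact hg (neg_eq_zero.mp (pen_inj (hinj h1)).1)
  have hγ : γ = 0 := by
    by_contra hg
    set a := δ / γ
    have ha : a ∈ mu := by
      have := hself 0 1 18 (by rw [hess_pen, ← pen_smul]; congr 1 <;> ring) (by simpa using hg)
      simp only [mul_zero, zero_add, mul_one] at this
      show a ^ 3 = 1
      rw [div_pow, this, div_self (pow_ne_zero 3 hg)]
    set p := α / γ with hp
    set r := β / γ with hr
    have hpt : ∀ w : ℂ, w ^ 3 = 1 → p ≠ -w → ∃ b ∈ mu, r + a * w = b * (p + w) := by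
      intro w hw hpw
      have hne : α * 1 + γ * w ≠ 0 := fun h0 => hpw (by
        rw [hp]; field_simp; linear_combination h0)
      have := hself 1 w (-54 * w ^ 2) (by
        rw [hess_pen, ← pen_smul]; congr 1
        · ring
        · linear_combination (72 : ℂ) * hw) hne
      refine ⟨(β * 1 + δ * w) / (α * 1 + γ * w), ?_, ?_⟩
      · show _ ^ 3 = 1
        rw [div_pow, this, div_self (pow_ne_zero 3 hne)]
      · simp only [a, hp, hr, mul_one] at hne ⊢
        field_simp
    have hkey : ∀ b ∈ mu, ∀ b' ∈ mu, ∀ pr ∈ cand z a b b', pr ≠ (p, r) := by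
      intro b hb b' hb' pr hpr e
      subst e
      refine hkq a ha b hb b' hb' _ hpr ?_
      show k * k + (p - a) * k + -r = 0
      simp only [a, hp, hr]
      field_simp
      linear_combination k * hα - hβ
    have hone : (1 : ℂ) ∈ mu := by simp [mu]
    by_cases hp1 : p = -1
    · obtain ⟨b, hb, hbr⟩ := hpt z hz (fun e => hz1 (neg_injective (e.symm.trans hp1)))
      refine hkey b hb 1 hone _ (Or.inl rfl) (Prod.ext hp1.symm ?_)
      rw [hp1] at hbr
      linear_combination -hbr
    by_cases hpz : p = -z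
    · obtain ⟨b, hb, hbr⟩ := hpt 1 (one_pow 3) hp1
      refine hkey b hb 1 hone _ (Or.inr (Or.inl rfl)) (Prod.ext hpz.symm ?_)
      rw [hpz] at hbr
      linear_combination -hbr
    obtain ⟨b, hb, h1⟩ := hpt 1 (one_pow 3) hp1
    obtain ⟨b', hb', h2⟩ := hpt z hz hpz
    have hz1' : (1 : ℂ) - z ≠ 0 := sub_ne_zero.mpr (Ne.symm hz1)
    have hbb : b - b' ≠ 0 := by
      intro hbb
      have hab : a = b := mul_right_cancel₀ hz1' (by linear_combination h1 - h2 + (p + z) * hbb)
      refine hnd hg ?_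
      rw [hab, mul_one] at h1
      have e : r = a * p := by rw [hab]; linear_combination h1
      simp only [a, hp, hr] at e
      field_simp at e
      linear_combination -e
    have hpv : p = (a * (1 - z) - b + b' * z) / (b - b') := by
      rw [eq_div_iff hbb]; linear_combination -h1 + h2
    refine hkey b hb b' hb' _ (Or.inr (Or.inr rfl)) (Prod.ext hpv.symm ?_)
    show b * ((a * (1 - z) - b + b' * z) / (b - b') + 1) - a = r
    rw [← hpv]
    linear_combination -h1
  subst hγ
  have hT : sub A (X 0 * X 1 * X 2) = C δ * (X 0 * X 1 * X 2) := by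
    have hp : ∀ w : ℂ, pen 0 w = C (-(3 * w)) * (X 0 * X 1 * X 2) := fun w => by
      simp [pen]
    have h1 := hact 0 (-1 / 3)
    rw [mul_zero, zero_mul, add_zero, mul_zero, zero_add, hp, hp, map_mul] at h1
    have e1 : -(3 * (-1 / 3 : ℂ)) = 1 := by ring
    have e2 : -(3 * (δ * (-1 / 3))) = δ := by ring
    rw [e1, e2, map_one, map_one, one_mul] at h1
    exact h1
  obtain ⟨τ, hτ⟩ := monomial_of_triangle (by simp [hA]) hT
  set d := fun i => A i (τ i) with hd
  have hAm : A = mono τ d := by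
    apply Matrix.ext; intro i l
    by_cases hl : l = τ i
    · simp [mono, hd, hl]
    · simp [mono, hl, hτ i l hl]
  refine ⟨τ, d, hAm, ?_⟩
  rw [hAm, sub_mono_pen] at h
  have hsingle : ∀ (l : Fin 3) (u w : ℂ), eval (Pi.single l (1 : ℂ)) (pen u w) = u := by
    intro l u w; fin_cases l <;> simp [pen, Pi.single_apply]
  have hcube : ∀ i, d i ^ 3 = c := by
    intro i
    have h1 := congrArg (eval (Pi.single (τ i) (1 : ℂ))) h
    simp only [map_sub, map_mul, eval_C, map_sum, map_pow, map_prod, eval_X, hsingle] at h1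
    rw [Finset.sum_eq_single i (fun j _ hj => by simp [Pi.single_apply, hj]) (by simp)] at h1
    have hz0 : ∏ j, (Pi.single (τ i) (1 : ℂ) : Fin 3 → ℂ) (τ j) = 0 := by
      obtain ⟨j, hj⟩ : ∃ j : Fin 3, j ≠ i := exists_ne i
      exact Finset.prod_eq_zero (Finset.mem_univ j) (by simp [Pi.single_apply, hj])
    rw [hz0] at h1
    simpa using h1
  have hprod : ∏ i, d i = c := by
    have h1 := congrArg (eval (fun _ : Fin 3 => (1 : ℂ))) h
    simp only [map_sub, map_mul, eval_C, map_sum, map_pow, map_prod, eval_X, pen, map_add,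
      one_pow, mul_one, hcube, Fin.sum_univ_three, Finset.prod_const_one] at h1
    refine mul_left_cancel₀ (mul_ne_zero (three_ne_zero : (3 : ℂ) ≠ 0) hk0) ?_
    linear_combination -h1
  have hdet : ((Equiv.Perm.sign τ : ℤ) : ℂ) * c = 1 := by
    rw [← hprod, ← det_mono, ← hAm, hA]
  have hc : c = (Equiv.Perm.sign τ : ℤ) := by
    rcases Int.units_eq_one_or (Equiv.Perm.sign τ) with e | e <;> rw [e] at hdet ⊢ <;>
      push_cast [Units.val_one, Units.val_neg] at hdet ⊢ <;> first | linear_combination hdet | linear_combination (-1 : ℂ) * hdet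
  exact fun i => ⟨(hcube i).trans hc, hprod.trans hc⟩

/-- The automorphisms, parametrised. -/
def autOf (x : Equiv.Perm (Fin 3) × rootsOfUnity 3 ℂ × rootsOfUnity 3 ℂ) : M3 :=
  mono x.1 fun i => ((Equiv.Perm.sign x.1 : ℤ) : ℂ) *
    ![((x.2.1 : ℂˣ) : ℂ), ((x.2.2 : ℂˣ) : ℂ), (((x.2.1 * x.2.2 : rootsOfUnity 3 ℂ) : ℂˣ) : ℂ)⁻¹] i

theorem sign_cube (τ : Equiv.Perm (Fin 3)) :
    ((Equiv.Perm.sign τ : ℤ) : ℂ) * ((Equiv.Perm.sign τ : ℤ) : ℂ) = 1 := by
  rw [← Int.cast_mul, ← Units.val_mul, Int.units_mul_self, Units.val_one, Int.cast_one]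

theorem autOf_mem (k : ℂ) (x : Equiv.Perm (Fin 3) × rootsOfUnity 3 ℂ × rootsOfUnity 3 ℂ) :
    (autOf x).det = 1 ∧ ∃ c, sub (autOf x) (pen 1 k) = C c * pen 1 k := by
  obtain ⟨τ, e₀, e₁⟩ := x
  set s : ℂ := ((Equiv.Perm.sign τ : ℤ) : ℂ) with hs
  have hss : s * s = 1 := sign_cube τ
  have h0 : ((e₀ : ℂˣ) : ℂ) ^ 3 = 1 := by
    rw [← Units.val_pow_eq_pow_val, (mem_rootsOfUnity 3 _).mp e₀.2, Units.val_one]
  have h1 : ((e₁ : ℂˣ) : ℂ) ^ 3 = 1 := by
    rw [← Units.val_pow_eq_pow_val, (mem_rootsOfUnity 3 _).mp e₁.2, Units.val_one]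
  have n0 : ((e₀ : ℂˣ) : ℂ) ≠ 0 := Units.ne_zero _
  have n1 : ((e₁ : ℂˣ) : ℂ) ≠ 0 := Units.ne_zero _
  set d : Fin 3 → ℂ := fun i => s *
    ![((e₀ : ℂˣ) : ℂ), ((e₁ : ℂˣ) : ℂ), (((e₀ * e₁ : rootsOfUnity 3 ℂ) : ℂˣ) : ℂ)⁻¹] i
  have hd : ∀ i, d i ^ 3 = s := by
    intro i
    have hs3 : s ^ 3 = s := by linear_combination s * hss
    fin_cases i <;> simp [d, mul_pow, hs3, h0, h1]
  have hp : ∏ i, d i = s := by
    simp [d, Fin.prod_univ_three]
    field_simp
    linear_combination s * hss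
  refine ⟨?_, s, ?_⟩
  · rw [show autOf (τ, e₀, e₁) = mono τ d from rfl, det_mono, hp]
    exact hss
  · rw [show autOf (τ, e₀, e₁) = mono τ d from rfl, sub_mono_pen, hp]
    simp only [hd]
    rw [← Finset.mul_sum, Equiv.sum_comp τ (fun j => (X j : P3) ^ 3),
      Equiv.prod_comp τ (fun j => (X j : P3)), Fin.sum_univ_three, Fin.prod_univ_three, pen,
      map_one]
    ring

theorem autOf_inj : Function.Injective autOf := by
  rintro ⟨τ, e₀, e₁⟩ ⟨τ', f₀, f₁⟩ h
  have hs : ∀ σ : Equiv.Perm (Fin 3), ((Equiv.Perm.sign σ : ℤ) : ℂ) ≠ 0 := fun σ => by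
    intro h0; simpa [h0] using sign_cube σ
  have ne : ∀ i, (autOf (τ, e₀, e₁)) i (τ i) ≠ 0 := fun i => by
    simp only [autOf, mono, Matrix.of_apply, if_pos]
    refine mul_ne_zero (hs τ) ?_
    fin_cases i <;> simp
  have hτ : τ = τ' := by
    refine Equiv.ext fun i => ?_
    by_contra hne
    refine ne i ?_
    rw [h]
    simp [autOf, mono, hne]
  subst hτ
  have e : ∀ i, autOf (τ, e₀, e₁) i (τ i) = autOf (τ, f₀, f₁) i (τ i) := fun i => by rw [h]
  have a0 := e 0
  have a1 := e 1
  simp only [autOf, mono, Matrix.of_apply, if_pos, mul_right_inj' (hs τ),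
    Matrix.cons_val_zero, Matrix.cons_val_one, Units.val_inj, SetLike.coe_eq_coe] at a0 a1
  rw [a0, a1]

theorem card_aut : ∃ T : Finset ℂ, ∀ k : ℂ, k ∉ T →
    Nat.card {A : M3 // A.det = 1 ∧ ∃ c, sub A (pen 1 k) = C c * pen 1 k} = 54 := by
  obtain ⟨z, hz⟩ : ∃ z : ℂ, IsPrimitiveRoot z 3 := ⟨_, Complex.isPrimitiveRoot_exp 3 (by norm_num)⟩
  refine ⟨(bad_finite z).toFinset, fun k hk => ?_⟩
  rw [Set.Finite.mem_toFinset] at hk
  let F : Equiv.Perm (Fin 3) × rootsOfUnity 3 ℂ × rootsOfUnity 3 ℂ →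
      {A : M3 // A.det = 1 ∧ ∃ c, sub A (pen 1 k) = C c * pen 1 k} :=
    fun x => ⟨autOf x, autOf_mem k x⟩
  have hF : Function.Bijective F := by
    refine ⟨fun x y h => autOf_inj (congrArg Subtype.val h), ?_⟩
    rintro ⟨A, hA, c, hc⟩
    obtain ⟨τ, d, rfl, hd⟩ := classify hz.pow_eq_one (hz.ne_one (by norm_num)) hk hA hc
    set s : ℂ := ((Equiv.Perm.sign τ : ℤ) : ℂ)
    have hss : s * s = 1 := sign_cube τ
    have hcube : ∀ i, (s * d i) ^ 3 = 1 := fun i => by
      rw [mul_pow, (hd i).1]; linear_combination (s * s + 1) * hss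
    let e : Fin 3 → rootsOfUnity 3 ℂ := fun i =>
      ⟨Units.mk0 (s * d i) (fun h0 => by simpa [h0] using hcube i),
        (mem_rootsOfUnity 3 _).mpr (Units.ext (by simpa using hcube i))⟩
    refine ⟨(τ, e 0, e 1), Subtype.ext ?_⟩
    show autOf _ = mono τ d
    simp only [autOf]
    congr 1
    have hp := (hd 0).2
    rw [Fin.prod_univ_three] at hp
    funext i
    fin_cases i
    · show s * (s * d 0) = d 0
      linear_combination d 0 * hss
    · show s * (s * d 1) = d 1
      linear_combination d 1 * hss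
    · show s * (s * d 0 * (s * d 1))⁻¹ = d 2
      have hn : s * d 0 * (s * d 1) ≠ 0 := by
        intro h0
        rcases mul_eq_zero.mp h0 with h1 | h1
        · simpa [h1] using hcube 0
        · simpa [h1] using hcube 1
      rw [← div_eq_mul_inv, div_eq_iff hn]
      linear_combination (-(s * s)) * hp - s * hss
  rw [← Nat.card_eq_of_bijective F hF, Nat.card_prod, Nat.card_prod, Complex.card_rootsOfUnity,
    Nat.card_perm, Nat.card_fin]
  decide

end Groth.Agent.Hesse
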