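import Groth.Agent.Hesse.Aut

/-! Flexes of smooth plane cubics and the Hesse normal form. -/

set_option autoImplicit false

noncomputable section

open MvPolynomial Matrix

namespace Groth.Agent.Hesse.Flex

/-- Vectors of `ℂ³`. -/
abbrev V : Type := Fin 3 → ℂ

/-- A symmetric trilinear form. -/
structure SymTri where
  T : V → V → V → ℂ
  comm12 : ∀ a b c, T a b c = T b a c
  comm23 : ∀ a b c, T a b c = T a c b
  add : ∀ a a' b c, T (a + a') b c = T a b c + T a' b c
  smul : ∀ (t : ℂ) a b c, T (t • a) b c = t * T a b c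

namespace SymTri

variable (S : SymTri)

theorem add2 (a b b' c : V) : S.T a (b + b') c = S.T a b c + S.T a b' c := by
  rw [S.comm12, S.add, S.comm12 b, S.comm12 b']

theorem add3 (a b c c' : V) : S.T a b (c + c') = S.T a b c + S.T a b c' := by
  rw [S.comm23, S.add2, S.comm23 a c, S.comm23 a c']

theorem smul2 (t : ℂ) (a b c : V) : S.T a (t • b) c = t * S.T a b c := by
  rw [S.comm12, S.smul, S.comm12 b]

theorem smul3 (t : ℂ) (a b c : V) : S.T a b (t • c) = t * S.T a b c := by
  rw [S.comm23, S.smul2, S.comm23 a c]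

theorem expand (u w : V) (t : ℂ) : S.T (u + t • w) (u + t • w) (u + t • w) =
    S.T u u u + t * (3 * S.T u u w) + t ^ 2 * (3 * S.T u w w) + t ^ 3 * S.T w w w := by
  simp only [S.add, S.add2, S.add3, S.smul, S.smul2, S.smul3]
  rw [S.comm12 w u u, S.comm23 u w u, S.comm12 w u w, S.comm23 w w u, S.comm12 w u w]
  ring

end SymTri

/-- The symmetrised product of three coordinates. -/
noncomputable def monoTri (r : ℂ) (a b c : Fin 3) : SymTri where
  T x y z := r / 6 * (x a * y b * z c + x a * y c * z b + x b * y a * z c + x b * y c * z a +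
    x c * y a * z b + x c * y b * z a)
  comm12 x y z := by ring
  comm23 x y z := by ring
  add x x' y z := by simp only [Pi.add_apply]; ring
  smul t x y z := by simp only [Pi.smul_apply, smul_eq_mul]; ring

/-- Sum of two symmetric trilinear forms. -/
def addTri (S S' : SymTri) : SymTri where
  T x y z := S.T x y z + S'.T x y z
  comm12 x y z := by rw [S.comm12, S'.comm12]
  comm23 x y z := by rw [S.comm23, S'.comm23]
  add x x' y z := by rw [S.add, S'.add]; ring
  smul t x y z := by rw [S.smul, S'.smul]; ring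

/-- Polarization of a homogeneous cubic. -/
def IsPolar (f : MvPolynomial (Fin 3) ℂ) (S : SymTri) : Prop :=
  (∀ u, eval u f = S.T u u u) ∧ ∀ i v, eval v (pderiv i f) = 3 * S.T (Pi.single i 1) v v

theorem exists_polar (f : MvPolynomial (Fin 3) ℂ) (hf : f.IsHomogeneous 3) :
    ∃ S, IsPolar f S := by
  suffices H : ∀ s : Finset (Fin 3 →₀ ℕ), (∀ d ∈ s, f.coeff d ≠ 0) →
      ∃ S, IsPolar (∑ d ∈ s, monomial d (f.coeff d)) S by
    obtain ⟨S, hS⟩ := H f.support fun d hd => mem_support_iff.1 hd
    rw [← f.as_sum] at hS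
    exact ⟨S, hS⟩
  intro s
  induction s using Finset.induction with
  | empty =>
    intro _
    refine ⟨monoTri 0 0 0 0, fun u => ?_, fun i v => ?_⟩ <;> simp [monoTri]
  | insert d s hd ih =>
    intro hs
    obtain ⟨S, hS, hS'⟩ := ih fun e he => hs e (Finset.mem_insert_of_mem he)
    have hdeg : d.degree = 3 := hf.degree_eq_sum_deg_support (mem_support_iff.2 (hs d (Finset.mem_insert_self _ _))) |>.symm
    have hcard : Multiset.card (Finsupp.toMultiset d) = 3 := by
      rw [Finsupp.card_toMultiset]; exact hdeg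
    obtain ⟨a, b, c, habc⟩ := Multiset.card_eq_three.1 hcard
    have hd' : d = Finsupp.single a 1 + Finsupp.single b 1 + Finsupp.single c 1 := by
      apply Finsupp.orderIsoMultiset.injective
      show Finsupp.toMultiset d = Finsupp.toMultiset _
      rw [habc]
      simp [Finsupp.toMultiset_single, ← Multiset.singleton_add, add_assoc]
    have hm : monomial d (f.coeff d) = C (f.coeff d) * (X a * X b * X c) := by
      generalize f.coeff d = r
      rw [hd']
      simp [X, C_mul_monomial, monomial_mul]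
    refine ⟨addTri (monoTri (f.coeff d) a b c) S, fun u => ?_, fun i v => ?_⟩
    · rw [Finset.sum_insert hd, map_add, hS u, hm]
      simp [addTri, monoTri]
      ring
    · rw [Finset.sum_insert hd, map_add, map_add, hS' i v, hm]
      simp only [pderiv_mul, pderiv_C, zero_mul, zero_add, map_add, map_mul, eval_C, eval_X,
        addTri, monoTri]
      simp only [pderiv_X, Pi.single_apply]
      by_cases h1 : a = i <;> by_cases h2 : b = i <;> by_cases h3 : c = i <;>
        simp [h1, h2, h3, eq_comm] <;> ring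

theorem evalVec (x : V) : x = x 0 • (Pi.single 0 1 : V) + x 1 • (Pi.single 1 1 : V) + x 2 • (Pi.single 2 1 : V) := by
  funext i; fin_cases i <;> simp

/-- Smoothness of the plane curve. -/
def Smooth (f : P3) : Prop :=
  ∀ v : V, v ≠ 0 → eval v f = 0 → ∃ i : Fin 3, eval v (pderiv i f) ≠ 0

/-- A flex. -/
def IsFlex (f : P3) (v : V) : Prop :=
  ∃ w : V, LinearIndependent ℂ ![v, w] ∧ ∀ t : ℂ, eval (v + t • w) f = t ^ 3 * eval w f

theorem exists_common_zero (f g : P3) (hf : eval (0 : V) f = 0) (hg : eval (0 : V) g = 0) :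
    ∃ v : V, v ≠ 0 ∧ eval v f = 0 ∧ eval v g = 0 := by
  by_contra h
  push Not at h
  set I : Ideal P3 := Ideal.span {f, g} with hI
  set m : Ideal P3 := RingHom.ker (eval (0 : V)) with hm
  have hmmax : m.IsMaximal :=
    RingHom.ker_isMaximal_of_surjective _ fun c => ⟨C c, by simp⟩
  have hIm : I ≤ m := by
    rw [hI, Ideal.span_le]
    rintro p (rfl | rfl)
    exacts [hf, hg]
  have hrad : I.radical = m := by
    refine le_antisymm ((Ideal.radical_mono hIm).trans_eq hmmax.isPrime.radical) ?_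
    rw [← vanishingIdeal_zeroLocus_eq_radical (K := ℂ) I]
    intro p hp v hv
    rw [mem_zeroLocus_iff] at hv
    have h1 : eval v f = 0 := by simpa [aeval_eq_eval] using hv f (Ideal.subset_span (by simp))
    have h2 : eval v g = 0 := by simpa [aeval_eq_eval] using hv g (Ideal.subset_span (by simp))
    have hv0 : v = 0 := by
      by_contra hv0
      exact h v hv0 h1 h2
    subst hv0
    simpa [aeval_eq_eval, hm] using hp
  have hle : m.height ≤ 2 := by
    have hmin : m ∈ I.minimalPrimes := by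
      rw [← Ideal.radical_minimalPrimes, hrad, Ideal.minimalPrimes_eq_subsingleton_self]
      exact Set.mem_singleton m
    refine (Ideal.height_le_spanRank_toENat_of_mem_minimalPrimes I m hmin).trans ?_
    have hr : I.spanRank ≤ 2 := by
      refine (Submodule.spanRank_span_le_card ({f, g} : Set P3)).trans ?_
      calc Cardinal.mk ({f, g} : Set P3) ≤ Cardinal.mk ({g} : Set P3) + 1 := Cardinal.mk_insert_le
        _ = 2 := by rw [Cardinal.mk_singleton]; norm_num
    have h2 := OrderHomClass.mono Cardinal.toENat hr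
    simpa using h2
  -- a chain of primes
  let κ : Fin 3 → (P3 →ₐ[ℂ] P3) := fun j => aeval fun i : Fin 3 => if i < j then 0 else X i
  let Q : Fin 3 → Ideal P3 := fun j => RingHom.ker (κ j).toRingHom
  have hQ : ∀ j, (Q j).IsPrime := fun j => RingHom.ker_isPrime _
  have := hQ 0; have := hQ 1; have := hQ 2; have := hmmax.isPrime
  have hκ : ∀ j l : Fin 3, j ≤ l → ∀ p, κ l (κ j p) = κ l p := by
    intro j l hjl p
    have : (κ l).comp (κ j) = κ l := by
      apply MvPolynomial.algHom_ext
      intro i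
      by_cases hi : i < j
      · simp [κ, hi, lt_of_lt_of_le hi hjl]
      · simp [κ, hi]
    exact congrArg (fun φ : P3 →ₐ[ℂ] P3 => φ p) this
  have hmono : ∀ j l : Fin 3, j ≤ l → Q j ≤ Q l := by
    intro j l hjl p hp
    have hp' : κ j p = 0 := hp
    show κ l p = 0
    rw [← hκ j l hjl p, hp', map_zero]
  have h01 : Q 0 < Q 1 := lt_of_le_of_ne (hmono 0 1 (by decide)) fun e => by
    have h1 : (X 0 : P3) ∈ Q 1 := by simp [Q, κ]
    rw [← e] at h1
    simp [Q, κ] at h1
  have h12 : Q 1 < Q 2 := lt_of_le_of_ne (hmono 1 2 (by decide)) fun e => by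
    have h1 : (X 1 : P3) ∈ Q 2 := by simp [Q, κ]
    rw [← e] at h1
    simp [Q, κ] at h1
  have h2m : Q 2 < m := by
    refine lt_of_le_of_ne (fun p hp => ?_) fun e => ?_
    · have hp' : κ 2 p = 0 := hp
      have hc : ∀ q, eval (0 : V) (κ 2 q) = eval (0 : V) q := by
        intro q
        induction q using MvPolynomial.induction_on with
        | C a => simp [κ]
        | add p q hp hq => simp only [map_add, hp, hq]
        | mul_X p i hp =>
          rw [map_mul, map_mul, hp, map_mul]
          congr 1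
          fin_cases i <;> simp [κ]
      show eval (0 : V) p = 0
      rw [← hc, hp', map_zero]
    · have h1 : (X 2 : P3) ∈ m := by simp [hm]
      rw [← e] at h1
      simp [Q, κ] at h1
  have a1 := Ideal.height_strict_mono_of_isPrime_of_isPrime h01
  have a2 := Ideal.height_strict_mono_of_isPrime_of_isPrime h12
  have a3 := Ideal.height_strict_mono_of_isPrime_of_isPrime h2m
  have b1 : 1 ≤ (Q 1).height := Order.one_le_iff_pos.2 (pos_of_gt a1)
  have b2 : 2 ≤ (Q 2).height := by
    have := Order.add_one_le_of_lt (b1.trans_lt a2)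
    simpa [one_add_one_eq_two] using this
  have b3 : (2 : ℕ∞) < m.height := b2.trans_lt a3
  exact absurd hle (not_le.2 b3)

/-- The flex conditions in terms of the polarization. -/
theorem flex_of_tri {f : P3} {S : SymTri} (hS : ∀ u, eval u f = S.T u u u) {v w : V}
    (h0 : S.T v v v = 0) (h1 : S.T v v w = 0) (h2 : S.T v w w = 0) (t : ℂ) :
    eval (v + t • w) f = t ^ 3 * eval w f := by
  rw [hS, hS, S.expand, h0, h1, h2]; ring

theorem tri_of_flex {f : P3} {S : SymTri} (hS : ∀ u, eval u f = S.T u u u) {v w : V}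
    (h : ∀ t : ℂ, eval (v + t • w) f = t ^ 3 * eval w f) :
    S.T v v v = 0 ∧ S.T v v w = 0 ∧ S.T v w w = 0 := by
  have e := fun t => h t
  simp only [hS, S.expand] at e
  have e0 := e 0
  have e1 := e 1
  have e2 := e (-1)
  refine ⟨by linear_combination e0, ?_, ?_⟩
  · linear_combination (1 / 6 : ℂ) * e1 - (1 / 6 : ℂ) * e2
  · linear_combination (1 / 6 : ℂ) * e1 + (1 / 6 : ℂ) * e2 - (1 / 3 : ℂ) * e0

theorem exists_flex {f : P3} (hf : f.IsHomogeneous 3) (hsm : Smooth f) :
    ∃ v : V, v ≠ 0 ∧ eval v f = 0 ∧ IsFlex f v := by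
  obtain ⟨S, hS, hS'⟩ := exists_polar f hf
  let L : Fin 3 → Fin 3 → P3 := fun i j =>
    ∑ l, C (S.T (Pi.single i 1) (Pi.single j 1) (Pi.single l 1)) * X l
  have hL : ∀ v i j, eval v (L i j) = S.T (Pi.single i 1) (Pi.single j 1) v := by
    intro v i j
    conv_rhs => rw [evalVec v]
    simp only [S.add3, S.smul3, L, Fin.sum_univ_three, map_add, map_mul, eval_C, eval_X]
    ring
  let M : Matrix (Fin 3) (Fin 3) P3 := Matrix.of L
  have hdet : ∀ v, eval v M.det = (Matrix.of fun i j => S.T (Pi.single i 1) (Pi.single j 1) v).det := by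
    intro v
    rw [RingHom.map_det]
    congr 1
    ext i j
    exact hL v i j
  have hz : ∀ a b c : V, (a = 0) → S.T a b c = 0 := by
    intro a b c ha
    rw [ha, show (0 : V) = (0 : ℂ) • (0 : V) by simp, S.smul, zero_mul]
  obtain ⟨v, hv, hfv, hgv⟩ := exists_common_zero f M.det (by rw [hS]; exact hz _ _ _ rfl) (by
    rw [hdet]
    refine Matrix.det_eq_zero_of_row_eq_zero 0 fun j => ?_
    show S.T _ _ _ = 0
    rw [S.comm23, S.comm12]; exact hz _ _ _ rfl)
  refine ⟨v, hv, hfv, ?_⟩
  rw [hdet] at hgv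
  obtain ⟨w, hw, hMw⟩ := Matrix.exists_mulVec_eq_zero_iff.2 hgv
  have hw' : ∀ i, S.T (Pi.single i 1) w v = 0 := by
    intro i
    have h := congrFun hMw i
    simp only [Matrix.mulVec, dotProduct, Matrix.of_apply, Fin.sum_univ_three, Pi.zero_apply] at h
    rw [evalVec w]
    simp only [S.add2, S.smul2]
    linear_combination h
  have hall : ∀ u, S.T u w v = 0 := by
    intro u
    rw [evalVec u]
    simp only [S.add, S.smul, hw']
    ring
  refine ⟨w, ?_, flex_of_tri hS ((hS v).symm.trans hfv)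
    (by rw [S.comm23]; exact hall v) (by rw [S.comm12, S.comm23]; exact hall w)⟩
  rw [LinearIndependent.pair_iff' hv]
  intro a hav
  subst hav
  have ha : a ≠ 0 := fun h => hw (by simp [h])
  obtain ⟨i, hi⟩ := hsm v hv hfv
  apply hi
  rw [hS']
  have h := hall (Pi.single i 1)
  rw [S.smul2] at h
  rw [(mul_eq_zero.1 h).resolve_left ha, mul_zero]

/-- Similarity of forms on `ℂ³`, as functions. -/
def Sim (φ ψ : V → ℂ) : Prop :=
  ∃ (A : M3) (c : ℂ), IsUnit A.det ∧ c ≠ 0 ∧ ∀ v, φ (A.mulVec v) = c * ψ v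

theorem Sim.trans {φ ψ χ : V → ℂ} (h : Sim φ ψ) (h' : Sim ψ χ) : Sim φ χ := by
  obtain ⟨A, c, hA, hc, e⟩ := h
  obtain ⟨B, d, hB, hd, e'⟩ := h'
  refine ⟨A * B, c * d, by rw [Matrix.det_mul]; exact hA.mul hB, mul_ne_zero hc hd, fun v => ?_⟩
  rw [← Matrix.mulVec_mulVec, e, e']; ring

theorem mulVec3 (A : M3) (v : V) (i : Fin 3) :
    A.mulVec v i = A i 0 * v 0 + A i 1 * v 1 + A i 2 * v 2 := by
  simp [Matrix.mulVec, dotProduct, Fin.sum_univ_three]

theorem isUnit_det_of_inj {A : M3} (h : ∀ v, A.mulVec v = 0 → v = 0) : IsUnit A.det := by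
  rw [isUnit_iff_ne_zero]
  intro h0
  obtain ⟨w, hw, e⟩ := Matrix.exists_mulVec_eq_zero_iff.2 h0
  exact hw (h w e)

/-- The form with a flex triangle. -/
def tri (m n : ℂ) : P3 := X 0 ^ 3 - X 1 * X 2 * (X 2 + C m * X 0 + C n * X 1)

theorem eval_tri (m n : ℂ) (v : V) :
    eval v (tri m n) = v 0 ^ 3 - v 1 * v 2 * (v 2 + m * v 0 + n * v 1) := by simp [tri]

/-- A form vanishing with all partial derivatives at a point cannot be similar to a smooth one. -/
theorem smooth_of_eq {f g : P3} {A : M3} {c : ℂ} (hsm : Smooth f) (hA : IsUnit A.det) (hc : c ≠ 0)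
    (h : ∀ v, eval (A.mulVec v) f = c * eval v g) : Smooth g := by
  have hfg : sub A f = C c * g := MvPolynomial.funext fun v => by rw [eval_sub, h]; simp
  intro v hv hgv
  by_contra hd
  push Not at hd
  have hAv : A.mulVec v ≠ 0 := fun e => hv (by
    have := congrArg (A⁻¹).mulVec e
    rwa [Matrix.mulVec_mulVec, Matrix.nonsing_inv_mul A hA, Matrix.one_mulVec,
      Matrix.mulVec_zero] at this)
  obtain ⟨i, hi⟩ := hsm _ hAv (by rw [h, hgv, mul_zero])
  apply hi
  set d : V := fun l => eval (A.mulVec v) (pderiv l f) with hdd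
  have : A.transpose.mulVec d = 0 := by
    funext j
    have h1 := congrArg (fun p => eval v (pderiv j p)) hfg
    simp only [pderiv_sub, map_sum, map_mul, eval_C, eval_sub, pderiv_C_mul] at h1
    rw [show eval v (pderiv j g) = 0 from hd j] at h1
    simp only [Matrix.mulVec, dotProduct, Matrix.transpose_apply, hdd, Pi.zero_apply]
    simpa using h1
  have h2 := congrArg (A.transpose⁻¹).mulVec this
  rw [Matrix.mulVec_mulVec, Matrix.nonsing_inv_mul _ (by rwa [Matrix.det_transpose]),
    Matrix.one_mulVec, Matrix.mulVec_zero] at h2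
  exact congrFun h2 i

theorem exists_sqrt (z : ℂ) : ∃ s : ℂ, s * s = z := by
  obtain ⟨s, hs⟩ := IsAlgClosed.exists_pow_nat_eq z (n := 2) (by norm_num)
  exact ⟨s, by rw [← hs]; ring⟩

theorem exists_weierstrass {f : P3} (hf : f.IsHomogeneous 3) (hsm : Smooth f) :
    ∃ a b : ℂ, Sim (fun v => eval v f)
      (fun v => v 0 ^ 3 + a * v 0 * v 1 ^ 2 + b * v 1 ^ 3 - v 1 * v 2 ^ 2) := by
  obtain ⟨S, hS, hS'⟩ := exists_polar f hf
  obtain ⟨v, hv, hfv, w, hvw, hflex⟩ := exists_flex hf hsm
  obtain ⟨t0, t1, t2⟩ := tri_of_flex hS hflex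
  obtain ⟨i, hi⟩ := hsm v hv hfv
  rw [hS'] at hi
  set u : V := Pi.single i 1
  have hu : S.T u v v ≠ 0 := fun e => hi (by rw [e, mul_zero])
  have hwvv : S.T w v v = 0 := by rw [S.comm12, S.comm23]; exact t1
  have hind : ∀ a b c : ℂ, a • w + b • u + c • v = 0 → a = 0 ∧ b = 0 ∧ c = 0 := by
    intro a b c h
    have h1 := congrArg (fun x => S.T x v v) h
    simp only [S.add, S.smul, t0, hwvv] at h1
    rw [show (0 : V) = (0 : ℂ) • (0 : V) by simp, S.smul, zero_mul] at h1
    have hb : b = 0 := (mul_eq_zero.1 (by linear_combination h1 : b * S.T u v v = 0)).resolve_right hu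
    rw [hb, zero_smul, add_zero] at h
    have := LinearIndependent.pair_iff.1 hvw c a (by rw [← h]; abel)
    exact ⟨this.2, hb, this.1⟩
  set c := S.T w w w with hc
  set α := 3 * S.T u v v with hα
  set β := 6 * S.T u v w
  set γ := 3 * S.T u u v
  set p := 3 * S.T u w w
  set q := 3 * S.T u u w
  set r := S.T u u u
  have hg : ∀ x y z : ℂ, eval (x • w + y • u + z • v) f =
      c * x ^ 3 + y * (α * z ^ 2 + β * x * z + γ * y * z + p * x ^ 2 + q * x * y + r * y ^ 2) := by
    intro x y z
    rw [hS]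
    simp only [S.add, S.add2, S.add3, S.smul, S.smul2, S.smul3]
    simp only [c, α, β, γ, p, q, r]
    simp only [S.comm12 w u u, S.comm23 u w u, S.comm12 w u w, S.comm23 w w u, S.comm12 w v v,
      S.comm23 v w v, S.comm12 w v w, S.comm23 w w v, S.comm12 v u u, S.comm23 u v u,
      S.comm12 v u v, S.comm23 v v u, S.comm12 w u v, S.comm23 u w v, S.comm12 v u w,
      S.comm12 w v u, S.comm23 v w u, t0, t1, t2]
    ring
  have hα0 : α ≠ 0 := mul_ne_zero three_ne_zero hu
  have hc0 : c ≠ 0 := by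
    intro hc0
    obtain ⟨z, hz⟩ : ∃ z, α * z ^ 2 + β * z + p = 0 := by
      obtain ⟨s, hs⟩ := exists_sqrt (discrim α β p)
      exact ⟨(-β + s) / (2 * α), by
        have := (quadratic_eq_zero_iff hα0 hs.symm ((-β + s) / (2 * α))).2 (Or.inl rfl)
        linear_combination this⟩
    set a : V := w + z • v
    have ha : a ≠ 0 := fun e => one_ne_zero (hind 1 0 z (by
      rw [one_smul, zero_smul, add_zero]; exact e)).1
    have hwwv : S.T w w v = 0 := by rw [S.comm23, S.comm12]; exact t2
    have hwvw : S.T w v w = 0 := by rw [S.comm12]; exact t2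
    have e1 : S.T w a a = 0 := by
      simp only [a, S.add2, S.add3, S.smul2, S.smul3, hwvv, hwwv, hwvw, ← hc, hc0]; ring
    have e2 : S.T v a a = 0 := by
      simp only [a, S.add2, S.add3, S.smul2, S.smul3, t0, t1, t2]
      rw [S.comm23 v w v, t1]; ring
    have e3 : S.T u a a = 0 := by
      simp only [a, S.add2, S.add3, S.smul2, S.smul3]
      rw [S.comm23 u w v]
      simp only [α, β, p] at hz
      linear_combination (1 / 3 : ℂ) * hz
    let B : M3 := Matrix.of fun i j => ![w, u, v] j i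
    have hB : ∀ x : V, B.mulVec x = x 0 • w + x 1 • u + x 2 • v := by
      intro x; funext i; rw [mulVec3]; simp [B]; ring
    have hBu : IsUnit B.det := isUnit_det_of_inj fun x hx => by
      rw [hB] at hx
      obtain ⟨h0, h1, h2⟩ := hind _ _ _ hx
      funext i; fin_cases i <;> assumption
    have hall : ∀ x : V, S.T x a a = 0 := by
      intro x
      have e : x = B.mulVec (B⁻¹.mulVec x) := by
        rw [Matrix.mulVec_mulVec, Matrix.mul_nonsing_inv B hBu, Matrix.one_mulVec]
      rw [e, hB]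
      simp only [S.add, S.smul, e1, e2, e3]; ring
    obtain ⟨j, hj⟩ := hsm a ha (by rw [hS]; exact hall a)
    exact hj (by rw [hS', hall, mul_zero])
  set p' := p - β ^ 2 / (4 * α)
  set q' := q - β * γ / (2 * α)
  set r' := r - γ ^ 2 / (4 * α)
  set a := q' - p' ^ 2 / (3 * c)
  set b := r' - p' * q' / (3 * c) + 2 * p' ^ 3 / (27 * c ^ 2)
  obtain ⟨s, hs⟩ := exists_sqrt (-c / α)
  have hs0 : s ≠ 0 := fun e => by
    rw [e, zero_mul] at hs
    exact hc0 (neg_eq_zero.1 ((div_eq_zero_iff.1 hs.symm).resolve_right hα0))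
  let P : M3 := Matrix.of fun i j =>
    ![w, (-p' / (3 * c)) • w + u + (-(β * (-p' / (3 * c)) + γ) / (2 * α)) • v, s • v] j i
      - (if j = 0 then β / (2 * α) * v i else 0)
  have hP : ∀ x : V, P.mulVec x = (x 0 - p' / (3 * c) * x 1) • w + x 1 • u +
      (s * x 2 - (β * (x 0 - p' / (3 * c) * x 1) + γ * x 1) / (2 * α)) • v := by
    intro x; funext i; rw [mulVec3]; simp [P]; ring
  refine ⟨a / c, b / c, P, c, isUnit_det_of_inj fun x hx => ?_, hc0, fun x => ?_⟩
  · rw [hP] at hx
    obtain ⟨h0, h1, h2⟩ := hind _ _ _ hx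
    rw [h1, mul_zero, sub_zero] at h0
    rw [h1, h0] at h2
    have h2' : x 2 = 0 := by
      simpa [hs0] using h2
    funext i; fin_cases i <;> assumption
  · show eval (P.mulVec x) f = _
    rw [hP, hg]
    simp only [a, b, p', q', r']
    have hs' : α * (s * s) = -c := by rw [hs]; field_simp
    generalize x 0 = X0; generalize x 1 = X1; generalize x 2 = X2
    clear_value c α β γ p q r
    linear_combination (norm := (field_simp; ring)) (X1 * X2 ^ 2) * hs'

theorem exists_tri {f : P3} (hf : f.IsHomogeneous 3) (hsm : Smooth f) :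
    ∃ m n : ℂ, n ≠ 0 ∧ (m ≠ 0 → m ^ 3 ≠ 27 * n) ∧
      Sim (fun v => eval v f) (fun v => eval v (tri m n)) := by
  obtain ⟨A, B, hW⟩ := exists_weierstrass hf hsm
  obtain ⟨x0, hx0⟩ := IsAlgClosed.exists_root
    (Polynomial.C (3 : ℂ) * Polynomial.X ^ 4 + Polynomial.C (6 * A) * Polynomial.X ^ 2 +
      Polynomial.C (12 * B) * Polynomial.X + Polynomial.C (-A ^ 2))
    (fun h => by
      have := Polynomial.le_degree_of_ne_zero (p := Polynomial.C (3 : ℂ) * Polynomial.X ^ 4 +
        Polynomial.C (6 * A) * Polynomial.X ^ 2 + Polynomial.C (12 * B) * Polynomial.X +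
        Polynomial.C (-A ^ 2)) (n := 4) (by simp only [Polynomial.coeff_add, Polynomial.coeff_C_mul, Polynomial.coeff_X_pow, Polynomial.coeff_X, Polynomial.coeff_C]; norm_num)
      rw [h] at this
      exact absurd this (by decide))
  simp only [Polynomial.IsRoot.def, Polynomial.eval_add, Polynomial.eval_mul, Polynomial.eval_C,
    Polynomial.eval_pow, Polynomial.eval_X] at hx0
  obtain ⟨m, n, hm, hmn, hn⟩ : ∃ m n : ℂ, m * m = 3 * x0 ∧ 2 * m * n = A - 3 * x0 ^ 2 ∧
      n * n = B + x0 ^ 3 := by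
    obtain ⟨m, hm⟩ := exists_sqrt (3 * x0)
    by_cases h : m = 0
    · obtain ⟨n, hn⟩ := exists_sqrt (B + x0 ^ 3)
      have h0 : x0 = 0 := by
        rw [h, zero_mul] at hm
        exact (mul_eq_zero.1 hm.symm).resolve_left three_ne_zero
      have hA : A = 0 := by
        rw [h0] at hx0
        have : A ^ 2 = 0 := by linear_combination -hx0
        exact pow_eq_zero_iff (by norm_num) |>.1 this
      exact ⟨m, n, hm, by rw [h, hA, h0]; ring, hn⟩
    · refine ⟨m, (A - 3 * x0 ^ 2) / (2 * m), hm, by field_simp, ?_⟩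
      field_simp
      linear_combination -hx0 - 4 * (B + x0 ^ 3) * hm
  set n' := n + m * x0
  let T : M3 := !![1, x0, 0; 0, 1, 0; m, n', 1]
  have hT : IsUnit T.det := by simp [T, Matrix.det_fin_three]
  have hsim : Sim (fun v => eval v f) (fun v => eval v (tri (2 * m) (2 * n'))) := by
    refine hW.trans ⟨T, 1, hT, one_ne_zero, fun v => ?_⟩
    simp [eval_tri, mulVec3, T, n']
    linear_combination (-(v 1) * v 0 ^ 2 - 2 * x0 * v 0 * v 1 ^ 2 - x0 ^ 2 * v 1 ^ 3) * hm +
      (-(v 0) * v 1 ^ 2 - x0 * v 1 ^ 3) * hmn - v 1 ^ 3 * hn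
  obtain ⟨P, c, hP, hc, e⟩ := hsim
  have hsm' := smooth_of_eq (g := tri (2 * m) (2 * n')) hsm hP hc e
  have hd0 : ∀ (a b : ℂ) (x : V), eval x (pderiv 0 (tri a b)) = 3 * x 0 ^ 2 - a * x 1 * x 2 := by
    intro a b x; simp [tri, pderiv_mul, pderiv_X, pderiv_pow]; ring
  have hd1 : ∀ (a b : ℂ) (x : V), eval x (pderiv 1 (tri a b)) =
      -(x 2 * (x 2 + a * x 0 + b * x 1)) - b * x 1 * x 2 := by
    intro a b x; simp [tri, pderiv_mul, pderiv_X, pderiv_pow]; ring
  have hd2 : ∀ (a b : ℂ) (x : V), eval x (pderiv 2 (tri a b)) =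
      -(x 1 * (x 2 + a * x 0 + b * x 1)) - x 1 * x 2 := by
    intro a b x; simp [tri, pderiv_mul, pderiv_X, pderiv_pow]; ring
  have hn' : 2 * n' ≠ 0 := by
    intro h0
    have hne : (![0, 1, 0] : V) ≠ 0 := fun h => by simpa using congrFun h 1
    obtain ⟨i, hi⟩ := hsm' ![0, 1, 0] hne (by simp [eval_tri])
    apply hi
    fin_cases i
    · simp [hd0]
    · simp [hd1]
    · simp [hd2, h0]
  refine ⟨2 * m, 2 * n', hn', fun h h27 => ?_, ⟨P, c, hP, hc, e⟩⟩
  generalize 2 * m = M at *
  generalize 2 * n' = N at *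
  set pt : V := ![3 / M, -1 / N, -1] with hpt
  have hne : pt ≠ 0 := fun h => by simpa [hpt] using congrFun h 2
  obtain ⟨i, hi⟩ := hsm' pt hne (by
    simp [eval_tri, hpt]; field_simp; linear_combination (-1 : ℂ) * h27)
  apply hi
  fin_cases i
  · simp [hd0, hpt]; field_simp; linear_combination (-1 : ℂ) * h27
  · simp [hd1, hpt]; field_simp; ring
  · simp [hd2, hpt]; field_simp; ring

theorem eval_form (k : ℂ) (v : V) : eval v (HesseCubic.form k) =
    v 0 ^ 3 + v 1 ^ 3 + v 2 ^ 3 - 3 * k * (v 0 * v 1 * v 2) := by simp [HesseCubic.form]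

theorem tri_sim_hesse {m n : ℂ} (hn : n ≠ 0) (h27 : m ≠ 0 → m ^ 3 ≠ 27 * n) :
    ∃ k : ℂ, k ^ 3 ≠ 1 ∧ Sim (fun v => eval v (tri m n)) (fun v => eval v (HesseCubic.form k)) := by
  by_cases hm : m = 0
  · subst hm
    obtain ⟨a, ha⟩ := IsAlgClosed.exists_pow_nat_eq (-n) (n := 3) (by norm_num)
    have ha0 : a ≠ 0 := fun e => hn (by rw [e] at ha; linear_combination ha)
    refine ⟨-2, by norm_num,
      !![1, 1, 1; a / n * -2, a / n, a / n; a, a * -2, a], 3, ?_, by norm_num, fun v => ?_⟩
    · rw [isUnit_iff_ne_zero, show Matrix.det !![(1 : ℂ), 1, 1; a / n * -2, a / n, a / n; a, a * -2, a]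
        = 9 * (a * a / n) by simp [Matrix.det_fin_three]; ring]
      exact mul_ne_zero (by norm_num) (div_ne_zero (mul_ne_zero ha0 ha0) hn)
    · simp [eval_tri, eval_form, mulVec3, Matrix.vecHead, Matrix.vecTail]
      field_simp
      linear_combination (-((-2 * v 0 + v 1 + v 2) * (v 0 - 2 * v 1 + v 2) *
        ((-2 * v 0 + v 1 + v 2) + (v 0 - 2 * v 1 + v 2)))) * ha
  · have h27' := h27 hm
    obtain ⟨k, hk⟩ := IsAlgClosed.exists_root
      (Polynomial.C (3 * n) * Polynomial.X ^ 3 + Polynomial.C (18 * n - m ^ 3) * Polynomial.X ^ 2 +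
        Polynomial.C (36 * n - m ^ 3) * Polynomial.X + Polynomial.C (24 * n - m ^ 3))
      (fun h => by
        have := Polynomial.le_degree_of_ne_zero (p := Polynomial.C (3 * n) * Polynomial.X ^ 3 +
          Polynomial.C (18 * n - m ^ 3) * Polynomial.X ^ 2 + Polynomial.C (36 * n - m ^ 3) * Polynomial.X +
          Polynomial.C (24 * n - m ^ 3)) (n := 3) (by simp only [Polynomial.coeff_add, Polynomial.coeff_C_mul, Polynomial.coeff_X_pow, Polynomial.coeff_X, Polynomial.coeff_C]; simp [hn])
        rw [h] at this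
        exact absurd this (by decide))
    simp only [Polynomial.IsRoot.def, Polynomial.eval_add, Polynomial.eval_mul, Polynomial.eval_C,
      Polynomial.eval_pow, Polynomial.eval_X] at hk
    have e : 3 * n * (k + 2) ^ 3 = m ^ 3 * (k ^ 2 + k + 1) := by linear_combination hk
    have hm3 : m ^ 3 ≠ 0 := pow_ne_zero 3 hm
    have hk2 : k + 2 ≠ 0 := fun h => by
      have : k = -2 := by linear_combination h
      subst this
      exact mul_ne_zero (three_ne_zero : (3 : ℂ) ≠ 0) hm3 (by linear_combination -e)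
    have hk1 : k ≠ 1 := fun h => by subst h; exact h27' (by linear_combination (-1 / 3 : ℂ) * e)
    refine ⟨k, fun h3 => ?_, ?_⟩
    · have hq : k ^ 2 + k + 1 = 0 := by
        have : (k - 1) * (k ^ 2 + k + 1) = 0 := by linear_combination h3
        exact (mul_eq_zero.1 this).resolve_left (sub_ne_zero.2 hk1)
      rw [hq, mul_zero] at e
      exact mul_ne_zero (mul_ne_zero three_ne_zero hn) (pow_ne_zero 3 hk2) e
    · -- u = -n y, v = -z, w = z + m x + n y; (u, v, w) = T
      refine ⟨!![(k + 2) / m, (k + 2) / m, (k + 2) / m; -k / n, -1 / n, -1 / n; -1, -k, -1],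
        (k - 1) ^ 2 / (3 * n), ?_, ?_, fun v => ?_⟩
      · rw [isUnit_iff_ne_zero,
          show Matrix.det !![(k + 2) / m, (k + 2) / m, (k + 2) / m; -k / n, -1 / n, -1 / n; -1, -k, -1]
            = (k + 2) * (k - 1) ^ 2 / (m * n) by simp [Matrix.det_fin_three]; ring]
        exact div_ne_zero (mul_ne_zero hk2 (pow_ne_zero 2 (sub_ne_zero.2 hk1))) (mul_ne_zero hm hn)
      · exact div_ne_zero (pow_ne_zero 2 (sub_ne_zero.2 hk1)) (mul_ne_zero three_ne_zero hn)
      · simp [eval_tri, eval_form, mulVec3, Matrix.vecHead, Matrix.vecTail]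
        linear_combination (norm := (field_simp; ring)) ((v 0 + v 1 + v 2) ^ 3 / (3 * n * m ^ 3)) * e

/-- Hesse normal form. -/
theorem exists_hesse {f : P3} (hf : f.IsHomogeneous 3) (hsm : Smooth f) :
    ∃ (A : M3) (k c : ℂ), IsUnit A.det ∧ k ^ 3 ≠ 1 ∧ c ≠ 0 ∧
      sub A f = C c * HesseCubic.form k := by
  obtain ⟨m, n, hn, h27, h⟩ := exists_tri hf hsm
  obtain ⟨k, hk, h'⟩ := tri_sim_hesse hn h27
  obtain ⟨A, c, hA, hc, e⟩ := h.trans h'
  exact ⟨A, k, c, hA, hk, hc, MvPolynomial.funext fun v => by rw [eval_sub]; simpa using e v⟩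

/-- The nine points. -/
def Nine (v : V) : Prop :=
  ∃ γ c : ℂ, γ ^ 3 = 1 ∧ (v = c • ![0, 1, -γ] ∨ v = c • ![-γ, 0, 1] ∨ v = c • ![1, -γ, 0])

theorem nine_of_coord {v : V} (hv : v ≠ 0) {k : ℂ} (he : eval v (HesseCubic.form k) = 0)
    (h : v 0 * v 1 * v 2 = 0) : Nine v := by
  rw [eval_form, h, mul_zero, sub_zero] at he
  rcases mul_eq_zero.1 h with h' | h2
  · rcases mul_eq_zero.1 h' with h0 | h1
    · have h1 : v 1 ≠ 0 := fun e => hv (by
        rw [h0, e] at he
        have : v 2 = 0 := by simpa using he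
        funext i; fin_cases i <;> assumption)
      refine ⟨-v 2 / v 1, v 1, ?_, Or.inl ?_⟩
      · rw [h0] at he; field_simp; linear_combination -he
      · funext i; fin_cases i <;> simp [h0] <;> field_simp
    · have h2 : v 2 ≠ 0 := fun e => hv (by
        rw [h1, e] at he
        have : v 0 = 0 := by simpa using he
        funext i; fin_cases i <;> assumption)
      refine ⟨-v 0 / v 2, v 2, ?_, Or.inr (Or.inl ?_)⟩
      · rw [h1] at he; field_simp; linear_combination -he
      · funext i; fin_cases i <;> simp [h1] <;> field_simp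
  · have h0 : v 0 ≠ 0 := fun e => hv (by
      rw [h2, e] at he
      have : v 1 = 0 := by simpa using he
      funext i; fin_cases i <;> assumption)
    refine ⟨-v 1 / v 0, v 0, ?_, Or.inr (Or.inr ?_)⟩
    · rw [h2] at he; field_simp; linear_combination -he
    · funext i; fin_cases i <;> simp [h2] <;> field_simp

theorem flex_iff {k : ℂ} (hk : k ^ 3 ≠ 1) {v : V} (hv : v ≠ 0)
    (he : eval v (HesseCubic.form k) = 0) : IsFlex (HesseCubic.form k) v ↔ Nine v := by
  constructor
  · rintro ⟨w, hvw, h⟩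
    refine nine_of_coord hv he ?_
    have e1 := h 1
    have e2 := h (-1)
    simp only [eval_form, Pi.add_apply, Pi.smul_apply, smul_eq_mul] at e1 e2 he
    let M : M3 := !![v 0, -k * v 2 / 2, -k * v 1 / 2; -k * v 2 / 2, v 1, -k * v 0 / 2;
      -k * v 1 / 2, -k * v 0 / 2, v 2]
    let B : V → V → ℂ := fun x y => x ⬝ᵥ M.mulVec y
    have hB : ∀ x y, B x y = v 0 * (x 0 * y 0) + v 1 * (x 1 * y 1) + v 2 * (x 2 * y 2) -
        k / 2 * (v 2 * (x 0 * y 1 + x 1 * y 0) + v 1 * (x 0 * y 2 + x 2 * y 0) +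
          v 0 * (x 1 * y 2 + x 2 * y 1)) := by
      intro x y; simp [B, dotProduct, Fin.sum_univ_three, mulVec3, M]; ring
    have bvv : B v v = 0 := by rw [hB]; linear_combination he
    have bvw : B v w = 0 := by rw [hB]; linear_combination (1 / 6 : ℂ) * e1 - (1 / 6 : ℂ) * e2
    have bwv : B w v = 0 := by rw [hB]; linear_combination (1 / 6 : ℂ) * e1 - (1 / 6 : ℂ) * e2
    have bww : B w w = 0 := by
      rw [hB]; linear_combination (1 / 6 : ℂ) * e1 + (1 / 6 : ℂ) * e2 - (1 / 3 : ℂ) * he
    have hdet : M.det = 0 := by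
      by_contra hdet
      have hMu : IsUnit M.det := isUnit_iff_ne_zero.2 hdet
      set P : Fin 2 → V := ![M.mulVec v, M.mulVec w]
      have hli : LinearIndependent ℂ P := by
        rw [LinearIndependent.pair_iff]
        intro s t hst
        rw [← Matrix.mulVec_smul, ← Matrix.mulVec_smul, ← Matrix.mulVec_add] at hst
        have := congrArg (M⁻¹).mulVec hst
        rw [Matrix.mulVec_mulVec, Matrix.nonsing_inv_mul M hMu, Matrix.one_mulVec,
          Matrix.mulVec_zero] at this
        exact LinearIndependent.pair_iff.1 hvw s t this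
      -- both vectors lie in the orthogonal of span(v, w), a line
      let φ : V →ₗ[ℂ] (Fin 2 → ℂ) := Matrix.mulVecLin (Matrix.of ![v, w])
      have hφ : LinearMap.range φ = ⊤ := by
        apply Submodule.eq_top_of_finrank_eq
        have hrk : (Matrix.of ![v, w]).rank = 2 := by
          rw [LinearIndependent.rank_matrix (M := Matrix.of ![v, w]) hvw]; simp
        simpa [Matrix.rank] using hrk
      have hker : Module.finrank ℂ (LinearMap.ker φ) = 1 := by
        have := φ.finrank_range_add_finrank_ker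
        rw [hφ, finrank_top] at this
        simp at this
        omega
      have hle : Submodule.span ℂ (Set.range P) ≤ LinearMap.ker φ := by
        rw [Submodule.span_le]
        rintro _ ⟨i, rfl⟩
        rw [SetLike.mem_coe, LinearMap.mem_ker]
        funext j
        fin_cases i <;> fin_cases j
        exacts [bvv, bwv, bvw, bww]
      have := Submodule.finrank_mono hle
      rw [finrank_span_eq_card hli, hker] at this
      simp at this
    have hd : M.det = v 0 * v 1 * v 2 * (1 - k ^ 3 / 4) -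
        k ^ 2 / 4 * (v 0 ^ 3 + v 1 ^ 3 + v 2 ^ 3) := by
      simp [M, Matrix.det_fin_three]; ring
    rw [hd] at hdet
    have h1k : (1 : ℂ) - k ^ 3 ≠ 0 := sub_ne_zero.2 (Ne.symm hk)
    refine (mul_eq_zero.1 (?_ : v 0 * v 1 * v 2 * (1 - k ^ 3) = 0)).resolve_right h1k
    linear_combination hdet + k ^ 2 / 4 * he
  · rintro ⟨γ, c, hγ, h⟩
    have hc : c ≠ 0 := by
      rintro rfl
      rcases h with rfl | rfl | rfl <;> simp at hv
    have key : ∀ (u w : V) (i : Fin 3), u ≠ 0 → u i = 0 → w i = 1 →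
        (∀ t : ℂ, eval (u + t • w) (HesseCubic.form k) = t ^ 3 * eval w (HesseCubic.form k)) →
        IsFlex (HesseCubic.form k) u := by
      intro u w i hu hui hwi h
      refine ⟨w, (LinearIndependent.pair_iff' hu).2 fun a e => ?_, h⟩
      have := congrFun e i
      simp [hui, hwi] at this
    rcases h with rfl | rfl | rfl
    · refine key _ ![1, -(k * γ), 0] 0 hv (by simp) (by simp) fun t => ?_
      simp [eval_form]
      linear_combination -c ^ 3 * hγ
    · refine key _ ![0, 1, -(k * γ)] 1 hv (by simp) (by simp) fun t => ?_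
      simp [eval_form]
      linear_combination -c ^ 3 * hγ
    · refine key _ ![-(k * γ), 0, 1] 2 hv (by simp) (by simp) fun t => ?_
      simp [eval_form]
      linear_combination -c ^ 3 * hγ

end Groth.Agent.Hesse.Flex
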