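import Groth.Agent.Hesse.Flex

/-! The projective automorphisms act transitively and faithfully on the flexes. -/

set_option autoImplicit false

noncomputable section

open MvPolynomial Matrix

namespace Groth.Agent.Hesse.Flex

theorem mulVec_inj {A : M3} (hA : IsUnit A.det) {x y : V} (h : A.mulVec x = A.mulVec y) : x = y := by
  have := congrArg (A⁻¹).mulVec h
  rwa [Matrix.mulVec_mulVec, Matrix.mulVec_mulVec, Matrix.nonsing_inv_mul A hA,
    Matrix.one_mulVec, Matrix.one_mulVec] at this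

/-- Flexes correspond under a similarity. -/
theorem isFlex_transfer {f g : P3} {A : M3} {c : ℂ} (hA : IsUnit A.det) (hc : c ≠ 0)
    (h : ∀ v, eval (A.mulVec v) f = c * eval v g) {a : V} (ha : a ≠ 0) :
    IsFlex f (A.mulVec a) ↔ IsFlex g a := by
  have hAa : A.mulVec a ≠ 0 := fun e => ha (mulVec_inj hA (by rw [e, Matrix.mulVec_zero]))
  constructor
  · rintro ⟨w, hw, e⟩
    obtain ⟨x, rfl⟩ : ∃ x, A.mulVec x = w :=
      ⟨A⁻¹.mulVec w, by rw [Matrix.mulVec_mulVec, Matrix.mul_nonsing_inv A hA, Matrix.one_mulVec]⟩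
    refine ⟨x, (LinearIndependent.pair_iff' ha).2 fun r hr => ?_, fun t => ?_⟩
    · exact (LinearIndependent.pair_iff' hAa).1 hw r (by rw [← Matrix.mulVec_smul, hr])
    · have h1 := e t
      rw [← Matrix.mulVec_smul, ← Matrix.mulVec_add, h, h] at h1
      exact mul_left_cancel₀ hc (by linear_combination h1)
  · rintro ⟨x, hx, e⟩
    refine ⟨A.mulVec x, (LinearIndependent.pair_iff' hAa).2 fun r hr => ?_, fun t => ?_⟩
    · rw [← Matrix.mulVec_smul] at hr
      exact (LinearIndependent.pair_iff' ha).1 hx r (mulVec_inj hA hr)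
    · rw [← Matrix.mulVec_smul, ← Matrix.mulVec_add, h, h, e]; ring

/-- The cyclic shift. -/
def rot : M3 := !![0, 0, 1; 1, 0, 0; 0, 1, 0]

/-- A diagonal symmetry. -/
def dia (g : ℂ) : M3 := !![1, 0, 0; 0, g, 0; 0, 0, g * g]

theorem eval_rot (k : ℂ) (x : V) :
    eval (rot.mulVec x) (HesseCubic.form k) = eval x (HesseCubic.form k) := by
  simp [eval_form, rot, Matrix.vecHead, Matrix.vecTail]; ring

theorem eval_dia (k : ℂ) {g : ℂ} (hg : g ^ 3 = 1) (x : V) :
    eval ((dia g).mulVec x) (HesseCubic.form k) = eval x (HesseCubic.form k) := by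
  simp [eval_form, dia, Matrix.vecHead, Matrix.vecTail]
  linear_combination (x 1 ^ 3 + x 2 ^ 3 * (g ^ 3 + 1) - 3 * k * (x 0 * x 1 * x 2)) * hg

/-- Symmetries carrying the base flex to a given one. -/
def Reach (k : ℂ) (v : V) : Prop :=
  ∃ (B : M3) (d : ℂ), IsUnit B.det ∧ d ≠ 0 ∧ B.mulVec ![0, 1, -1] = d • v ∧
    ∀ x, eval (B.mulVec x) (HesseCubic.form k) = eval x (HesseCubic.form k)

theorem det_rot : rot.det = 1 := by simp [rot, Matrix.det_fin_three]

theorem det_dia (g : ℂ) : (dia g).det = g ^ 3 := by simp [dia, Matrix.det_fin_three]; ring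

theorem reach_rot {k : ℂ} {v w : V} (h : Reach k v) (e : rot.mulVec v = w) : Reach k w := by
  obtain ⟨B, d, hB, hd, hv, hinv⟩ := h
  refine ⟨rot * B, d, ?_, hd, ?_, fun x => ?_⟩
  · rw [Matrix.det_mul, det_rot, one_mul]; exact hB
  · rw [← Matrix.mulVec_mulVec, hv, Matrix.mulVec_smul, e]
  · rw [← Matrix.mulVec_mulVec, eval_rot, hinv]

theorem reach_nine {k : ℂ} {v : V} (hv : v ≠ 0) (h : Nine v) : Reach k v := by
  obtain ⟨g, c, hg, h⟩ := h
  have hc : c ≠ 0 := by
    rintro rfl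
    rcases h with rfl | rfl | rfl <;> simp at hv
  have hg0 : g ≠ 0 := by rintro rfl; norm_num at hg
  have base : Reach k (c • ![0, 1, -g]) := by
    refine ⟨dia g, g / c, ?_, div_ne_zero hg0 hc, ?_, eval_dia k hg⟩
    · rw [det_dia, hg]; exact isUnit_one
    · funext i; fin_cases i <;> simp [dia, hc, Matrix.vecHead, Matrix.vecTail] <;> field_simp
  have second : Reach k (c • ![-g, 0, 1]) := reach_rot base (by
    funext i; fin_cases i <;> simp [rot, Matrix.vecHead, Matrix.vecTail])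
  rcases h with rfl | rfl | rfl
  · exact base
  · exact second
  · exact reach_rot second (by funext i; fin_cases i <;> simp [rot, Matrix.vecHead, Matrix.vecTail])

theorem transitive {k : ℂ} {u u' : V} (hu : u ≠ 0) (hu' : u' ≠ 0) (h : Nine u) (h' : Nine u') :
    ∃ (B : M3) (d : ℂ), IsUnit B.det ∧ B.mulVec u = d • u' ∧
      ∀ x, eval (B.mulVec x) (HesseCubic.form k) = eval x (HesseCubic.form k) := by
  obtain ⟨B, d, hB, hd, e, hi⟩ := reach_nine (k := k) hu h
  obtain ⟨B', d', hB', -, e', hi'⟩ := reach_nine (k := k) hu' h'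
  refine ⟨B' * B⁻¹, d' / d, ?_, ?_, fun x => ?_⟩
  · rw [Matrix.det_mul]; exact hB'.mul (B.isUnit_nonsing_inv_det hB)
  · have : B⁻¹.mulVec u = d⁻¹ • ![0, 1, -1] := by
      apply mulVec_inj hB
      rw [Matrix.mulVec_mulVec, Matrix.mul_nonsing_inv B hB, Matrix.one_mulVec, Matrix.mulVec_smul,
        e, smul_smul, inv_mul_cancel₀ hd, one_smul]
    rw [← Matrix.mulVec_mulVec, this, Matrix.mulVec_smul, e', smul_smul, inv_mul_eq_div]
  · rw [← Matrix.mulVec_mulVec, hi']
    have := hi (B⁻¹.mulVec x)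
    rw [Matrix.mulVec_mulVec, Matrix.mul_nonsing_inv B hB, Matrix.one_mulVec] at this
    exact this.symm

theorem exists_omega : ∃ z : ℂ, z ^ 3 = 1 ∧ z ^ 2 + z + 1 = 0 := by
  obtain ⟨z, hz⟩ := IsAlgClosed.exists_root
    (Polynomial.X ^ 2 + Polynomial.X + Polynomial.C (1 : ℂ)) (fun h => by
      have := Polynomial.le_degree_of_ne_zero
        (p := Polynomial.X ^ 2 + Polynomial.X + Polynomial.C (1 : ℂ)) (n := 2)
        (by simp [Polynomial.coeff_X, Polynomial.coeff_one])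
      rw [h] at this
      exact absurd this (by decide))
  simp only [Polynomial.IsRoot.def, Polynomial.eval_add, Polynomial.eval_pow, Polynomial.eval_X,
    Polynomial.eval_C] at hz
  exact ⟨z, by linear_combination (z - 1) * hz, hz⟩

theorem scalar_of_fix {B : M3}
    (h : ∀ g : ℂ, g ^ 3 = 1 → ∀ v ∈ ({![0, 1, -g], ![-g, 0, 1], ![1, -g, 0]} : Set V),
      ∃ d : ℂ, B.mulVec v = d • v) :
    ∃ c : ℂ, B = c • (1 : M3) := by
  obtain ⟨z, hz, hq⟩ := exists_omega
  have hz2 : (z ^ 2) ^ 3 = 1 := by linear_combination (z ^ 3 + 1) * hz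
  have hne : z - 1 ≠ 0 := fun e => by
    have : z = 1 := by linear_combination e
    subst this; norm_num at hq
  have lin : ∀ p q : ℂ, (∀ g : ℂ, g ^ 3 = 1 → p - g * q = 0) → p = 0 ∧ q = 0 := by
    intro p q h
    have h1 := h 1 (one_pow 3)
    have h2 := h z hz
    have hq0 : q = 0 :=
      (mul_eq_zero.1 (by linear_combination h1 - h2 : (z - 1) * q = 0)).resolve_left hne
    exact ⟨by linear_combination h1 + hq0, hq0⟩
  have quad : ∀ p q r : ℂ, (∀ g : ℂ, g ^ 3 = 1 → p + g * q + g ^ 2 * r = 0) →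
      p = 0 ∧ q = 0 ∧ r = 0 := by
    intro p q r h
    have h1 := h 1 (one_pow 3)
    have h2 := h z hz
    have h3 := h (z ^ 2) hz2
    refine ⟨?_, ?_, ?_⟩
    · linear_combination (1 / 3 : ℂ) * (h1 + h2 + h3) - (1 / 3 : ℂ) * (q + r) * hq -
        (1 / 3 : ℂ) * r * z * hz
    · linear_combination (1 / 3 : ℂ) * (h1 + z ^ 2 * h2 + z * h3) - (1 / 3 : ℂ) * (p + r) * hq -
        (1 / 3 : ℂ) * (2 * q + r * z + r * z ^ 2) * hz
    · linear_combination (1 / 3 : ℂ) * (h1 + z * h2 + z ^ 2 * h3) - (1 / 3 : ℂ) * (p + q) * hq -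
        (1 / 3 : ℂ) * (q * z + r + r * (z ^ 3 + 1)) * hz
  have rows : ∀ (i j l : Fin 3), (∀ g : ℂ, g ^ 3 = 1 → ∃ d : ℂ,
      B i j - g * B i l = 0 ∧ B j j - g * B j l = d ∧ B l j - g * B l l = -(g * d)) →
      B i j = 0 ∧ B i l = 0 ∧ B l j = 0 ∧ B j l = 0 ∧ B j j = B l l := by
    intro i j l h
    obtain ⟨h1, h2⟩ := lin _ _ fun g hg => (h g hg).choose_spec.1
    obtain ⟨h3, h4, h5⟩ := quad (B l j) (B j j - B l l) (-B j l) fun g hg => by
      obtain ⟨d, -, e1, e2⟩ := h g hg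
      linear_combination e2 + g * e1
    exact ⟨h1, h2, h3, neg_eq_zero.1 h5, sub_eq_zero.1 h4⟩
  obtain ⟨a1, a2, a3, a4, a5⟩ := rows 0 1 2 fun g hg => by
    obtain ⟨d, hd⟩ := h g hg ![0, 1, -g] (by simp)
    have e0 := congrFun hd 0; have e1 := congrFun hd 1; have e2 := congrFun hd 2
    simp [mulVec3] at e0 e1 e2
    exact ⟨d, by linear_combination e0, by linear_combination e1, by linear_combination e2⟩
  obtain ⟨b1, b2, b3, b4, b5⟩ := rows 1 2 0 fun g hg => by
    obtain ⟨d, hd⟩ := h g hg ![-g, 0, 1] (by simp)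
    have e0 := congrFun hd 0; have e1 := congrFun hd 1; have e2 := congrFun hd 2
    simp [mulVec3] at e0 e1 e2
    exact ⟨d, by linear_combination e1, by linear_combination e2, by linear_combination e0⟩
  refine ⟨B 0 0, ?_⟩
  ext i j
  fin_cases i <;> fin_cases j <;>
    simp [a1, a2, a3, a4, b1, b2, b3, b4, a5, b5, Matrix.one_apply]

end Groth.Agent.Hesse.Flex
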